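import Mathlib
import Cfsg.Agent.Helper19.TCR.Lab
import Cfsg.Agent.Helper19.TCR.Pair
import Cfsg.Agent.Helper19.SchM22.Chk0
import Cfsg.Agent.Helper19.SchM22.Chk1
import Cfsg.Agent.Helper19.SchM22.Chk2
import Cfsg.Agent.Helper19.SchM22.Chk3
import Cfsg.Agent.Helper19.SchM22.Chk4
import Cfsg.Agent.Helper19.SchM22.Chk5
import Cfsg.Agent.Helper19.SchM22.Chk6
import Cfsg.Agent.Helper19.SchM22.Chk7
import Cfsg.Agent.Helper19.SchM22.Chk8
import Cfsg.Agent.Helper19.SchM22.Chk9
import Cfsg.Agent.Helper19.SchM22.Chk10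
import Cfsg.Agent.Helper19.SchM22.Chk11
import Cfsg.Agent.Helper19.SchM22.Chk12
import Cfsg.Agent.Helper19.SchM22.Chk13
import Cfsg.Agent.Helper19.SchM22.Chk14
import Cfsg.Agent.Helper19.SchM22.Chk15
import Cfsg.Agent.Helper19.SchM22.Chk16
import Cfsg.Agent.Helper19.SchM22.Chk17
import Cfsg.Agent.Helper19.SchM22.Chk18
import Cfsg.Agent.Helper19.SchM22.Chk19
import Cfsg.Agent.Helper19.SchM22.PChk0
import Cfsg.Agent.Helper19.SchM22.PChk1
import Cfsg.Agent.Helper19.SchM22.PChk2
import Cfsg.Agent.Helper19.SchM22.PChk3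
import Cfsg.Agent.Helper19.SchM22.PChk4
import Cfsg.Agent.Helper19.SchM22.PChk5
import Cfsg.Agent.Helper19.SchM22.PChk6
import Cfsg.Agent.Helper19.SchM22.PChk7
import Cfsg.Agent.Helper19.SchM22.PChk8
import Cfsg.Agent.Helper19.SchM22.PChk9
import Cfsg.Agent.Helper19.SchM22.PChk10
import Cfsg.Agent.Helper19.SchM22.PChk11
import Cfsg.Agent.Helper19.SchM22.PChk12
import Cfsg.Agent.Helper19.SchM22.PChk13
import Cfsg.Agent.Helper19.SchM22.PChk14
import Cfsg.Agent.Helper19.SchM22.PChk15
import Cfsg.Agent.Helper19.SchM22.PChk16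
import Cfsg.Agent.Helper19.SchM22.PChk17
import Cfsg.Agent.Helper19.SchM22.PChk18
import Cfsg.Agent.Helper19.SchM22.PChk19
import Cfsg.Agent.Helper19.SchM22.ChkT

set_option autoImplicit false
set_option linter.all false
set_option maxRecDepth 1000000
set_option maxHeartbeats 0

namespace Cfsg.Agent.Helper19.SchM22

open Cfsg.Agent.Helper19.TCS Cfsg.Agent.Helper19.TCL

theorem okR_all : ∀ p, p < 80 → OKR (p * 1008) 1008 := by
  intro p hp
  interval_cases p
  · exact okR0
  · exact okR1
  · exact okR2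
  · exact okR3
  · exact okR4
  · exact okR5
  · exact okR6
  · exact okR7
  · exact okR8
  · exact okR9
  · exact okR10
  · exact okR11
  · exact okR12
  · exact okR13
  · exact okR14
  · exact okR15
  · exact okR16
  · exact okR17
  · exact okR18
  · exact okR19
  · exact okR20
  · exact okR21
  · exact okR22
  · exact okR23
  · exact okR24
  · exact okR25
  · exact okR26
  · exact okR27
  · exact okR28
  · exact okR29
  · exact okR30
  · exact okR31
  · exact okR32
  · exact okR33
  · exact okR34
  · exact okR35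
  · exact okR36
  · exact okR37
  · exact okR38
  · exact okR39
  · exact okR40
  · exact okR41
  · exact okR42
  · exact okR43
  · exact okR44
  · exact okR45
  · exact okR46
  · exact okR47
  · exact okR48
  · exact okR49
  · exact okR50
  · exact okR51
  · exact okR52
  · exact okR53
  · exact okR54
  · exact okR55
  · exact okR56
  · exact okR57
  · exact okR58
  · exact okR59
  · exact okR60
  · exact okR61
  · exact okR62
  · exact okR63
  · exact okR64
  · exact okR65
  · exact okR66
  · exact okR67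
  · exact okR68
  · exact okR69
  · exact okR70
  · exact okR71
  · exact okR72
  · exact okR73
  · exact okR74
  · exact okR75
  · exact okR76
  · exact okR77
  · exact okR78
  · exact okR79

theorem okP_all : ∀ p, p < 80 → OKP (p * 1008) 1008 := by
  intro p hp
  interval_cases p
  · exact okP0
  · exact okP1
  · exact okP2
  · exact okP3
  · exact okP4
  · exact okP5
  · exact okP6
  · exact okP7
  · exact okP8
  · exact okP9
  · exact okP10
  · exact okP11
  · exact okP12
  · exact okP13
  · exact okP14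
  · exact okP15
  · exact okP16
  · exact okP17
  · exact okP18
  · exact okP19
  · exact okP20
  · exact okP21
  · exact okP22
  · exact okP23
  · exact okP24
  · exact okP25
  · exact okP26
  · exact okP27
  · exact okP28
  · exact okP29
  · exact okP30
  · exact okP31
  · exact okP32
  · exact okP33
  · exact okP34
  · exact okP35
  · exact okP36
  · exact okP37
  · exact okP38
  · exact okP39
  · exact okP40
  · exact okP41
  · exact okP42
  · exact okP43
  · exact okP44
  · exact okP45
  · exact okP46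
  · exact okP47
  · exact okP48
  · exact okP49
  · exact okP50
  · exact okP51
  · exact okP52
  · exact okP53
  · exact okP54
  · exact okP55
  · exact okP56
  · exact okP57
  · exact okP58
  · exact okP59
  · exact okP60
  · exact okP61
  · exact okP62
  · exact okP63
  · exact okP64
  · exact okP65
  · exact okP66
  · exact okP67
  · exact okP68
  · exact okP69
  · exact okP70
  · exact okP71
  · exact okP72
  · exact okP73
  · exact okP74
  · exact okP75
  · exact okP76
  · exact okP77
  · exact okP78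
  · exact okP79

theorem okT_all : ∀ p, p < 5 → OKT (p * 20000) 20000 := by
  intro p hp
  interval_cases p
  · exact okT0
  · exact okT1
  · exact okT2
  · exact okT3
  · exact okT4

theorem okAll : ∀ i l, i < 80640 → l < 4 → OKE i l := by
  intro i l hi hl
  have hp : i / 1008 < 80 := by omega
  have h1 : i / 1008 * 1008 ≤ i := Nat.div_mul_le_self i 1008
  have h2 : i < i / 1008 * 1008 + 1008 := by omega
  exact okRowsL_spec (i / 1008 * 1008) 1008 (okR_all (i / 1008) hp) i h1 h2 hi l hl

theorem treeAll : ∀ j, 0 < j → j < 80640 → parF j < j := by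
  intro j h0 hj
  have hp : j / 20000 < 5 := by omega
  have h1 : j / 20000 * 20000 ≤ j := Nat.div_mul_le_self j 20000
  have h2 : j < j / 20000 * 20000 + 20000 := by omega
  exact okTree_spec (j / 20000 * 20000) 20000 (okT_all (j / 20000) hp) j h1 h2 h0 hj

theorem rotsF_ok : ∀ r, r < 92 → rotsF r = rotL.getD r ([], 0, 0) := by
  have h : (List.range 92).all (fun r => rotsF r == rotL.getD r ([], 0, 0)) = true := by decide +kernel
  intro r hr
  have := forall_lt_of_all h r hr
  exact beq_iff_eq.mp this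

theorem rotL_ok : (List.range 92).all (fun r =>
    rotOKL 4 subs.length 16 33554432 131072 65536 rels (rotL.getD r ([], 0, 0)) (rotIdx.getD r (0, 0))) = true := by
  decide +kernel

theorem subL_ok : (List.range subL.length).all (fun s =>
    subOKL 4 16 33554432 131072 65536 subs (subL.getD s ([], 0, [], 0)) (subIdx.getD s 0)) = true := by
  decide +kernel

theorem subsF_ok : ∀ s, (subsF s).2.1 < 4 → s < subL.length ∧ subsF s = subL.getD s ([], 0, [], 0) := by
  intro s hs
  unfold subsF at hs ⊢
  by_cases h : s < subL.length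
  · refine ⟨h, ?_⟩
    rw [List.getD_eq_getElem _ _ h, List.getD_eq_getElem _ _ h]
  · rw [List.getD_eq_default _ _ (not_lt.mp h)] at hs
    simp at hs

/-- the labelled table is closed, for any group with generators `gc` whose relator values are central. -/
theorem closedL {Γ : Type*} [Group Γ] {C : Type*} [CommGroup C] (gc : ℕ → Γ) (ι : C →* Γ) (gen : ℕ → C)
    (hinv : ∀ l, l < 4 → gc (invF l) = (gc l)⁻¹)
    (hrels : ∀ ρ, ρ < rels.length → prodw gc (rels.getD ρ []) = ι (gen (subs.length + ρ)) ∧
      ∀ g : Γ, Commute (prodw gc (rels.getD ρ [])) g)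
    (hsubs : ∀ s, s < subs.length → prodw gc (subs.getD s []) = ι (gen s)) :
    SemL 80640 4 262144 16 33554432 131072 65536 5043456943445223116186661572547285519342336600458401220895985140986234651289294833557107193162271561719623565615104000 invF 92 rotsF subsF gc ι gen ∧
      ∀ i l, i < 80640 → l < 4 → FactL gc ι gen 80640 131072 4398046511104 16 33554432 131072 65536 ent parF pletF i l := by
  have S : SemL 80640 4 262144 16 33554432 131072 65536 5043456943445223116186661572547285519342336600458401220895985140986234651289294833557107193162271561719623565615104000 invF 92 rotsF subsF gc ι gen :=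
    semL_of_data rels subs rotL rotIdx subL subIdx
      (by intro l hl; interval_cases l <;> decide) hinv (by norm_num) (by norm_num) (by norm_num)
      (by decide +kernel) (by norm_num) (by norm_num) rotsF_ok rotL_ok hrels subsF_ok subL_ok hsubs
  exact ⟨S, closed_of_okL S treeAll okAll⟩


theorem face0 {Γ : Type*} [Group Γ] {C : Type*} [CommGroup C] (gc : ℕ → Γ) (ι : C →* Γ) (gen : ℕ → C)
    (hinv : ∀ l, l < 4 → gc (invF l) = (gc l)⁻¹)
    (hrels : ∀ ρ, ρ < rels.length → prodw gc (rels.getD ρ []) = ι (gen (subs.length + ρ)) ∧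
      ∀ g : Γ, Commute (prodw gc (rels.getD ρ [])) g)
    (hsubs : ∀ s, s < subs.length → prodw gc (subs.getD s []) = ι (gen s)) :
    ι (gen (subs.length + 0)) = ι (dsem gen 65536 11 0 [720896, 720897, 720893, 720896, 720896, 720896, 720896, 720896, 720897, 720896, 720896, 720896, 720896, 720896, 720896, 720896]) := by
  obtain ⟨S, hcl⟩ := closedL gc ι gen hinv hrels hsubs
  have hw : [0, 0, 0, 0, 0, 0, 0, 0, 0, 0, 0] = (rels.getD 0 []).rotate 0 := by decide
  obtain ⟨h1, h2⟩ := hrels 0 (by decide)
  have hcen : ∀ g : Γ, Commute (prodw gc [0, 0, 0, 0, 0, 0, 0, 0, 0, 0, 0]) g := by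
    rw [hw, prodw_rotate_central h2]; exact h2
  have h3 := face_spec S hcl (w := [0, 0, 0, 0, 0, 0, 0, 0, 0, 0, 0]) (b := 3284) (expected := 55478026377897454278053277298020140712765702605042413429857443488892840154457785131220520287387509381906264314914471936) (by norm_num) (by decide) (by norm_num)
    [720896, 720897, 720893, 720896, 720896, 720896, 720896, 720896, 720897, 720896, 720896, 720896, 720896, 720896, 720896, 720896] (by decide) (by decide) (by decide +kernel) hcen okF0
  rw [← h1, ← prodw_rotate_central h2 0, ← hw]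
  exact h3


theorem face1 {Γ : Type*} [Group Γ] {C : Type*} [CommGroup C] (gc : ℕ → Γ) (ι : C →* Γ) (gen : ℕ → C)
    (hinv : ∀ l, l < 4 → gc (invF l) = (gc l)⁻¹)
    (hrels : ∀ ρ, ρ < rels.length → prodw gc (rels.getD ρ []) = ι (gen (subs.length + ρ)) ∧
      ∀ g : Γ, Commute (prodw gc (rels.getD ρ [])) g)
    (hsubs : ∀ s, s < subs.length → prodw gc (subs.getD s []) = ι (gen s)) :
    ι (gen (subs.length + 0)) = ι (dsem gen 65536 11 0 [720896, 720897, 720895, 720896, 720898, 720896, 720896, 720896, 720895, 720896, 720896, 720896, 720896, 720896, 720896, 720896]) := by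
  obtain ⟨S, hcl⟩ := closedL gc ι gen hinv hrels hsubs
  have hw : [0, 0, 0, 0, 0, 0, 0, 0, 0, 0, 0] = (rels.getD 0 []).rotate 0 := by decide
  obtain ⟨h1, h2⟩ := hrels 0 (by decide)
  have hcen : ∀ g : Γ, Commute (prodw gc [0, 0, 0, 0, 0, 0, 0, 0, 0, 0, 0]) g := by
    rw [hw, prodw_rotate_central h2]; exact h2
  have h3 := face_spec S hcl (w := [0, 0, 0, 0, 0, 0, 0, 0, 0, 0, 0]) (b := 35832) (expected := 55478026377897454278053277298020140712765702605042413429854229612804322173906701207035840497483665432379753522463965184) (by norm_num) (by decide) (by norm_num)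
    [720896, 720897, 720895, 720896, 720898, 720896, 720896, 720896, 720895, 720896, 720896, 720896, 720896, 720896, 720896, 720896] (by decide) (by decide) (by decide +kernel) hcen okF1
  rw [← h1, ← prodw_rotate_central h2 0, ← hw]
  exact h3


theorem face2 {Γ : Type*} [Group Γ] {C : Type*} [CommGroup C] (gc : ℕ → Γ) (ι : C →* Γ) (gen : ℕ → C)
    (hinv : ∀ l, l < 4 → gc (invF l) = (gc l)⁻¹)
    (hrels : ∀ ρ, ρ < rels.length → prodw gc (rels.getD ρ []) = ι (gen (subs.length + ρ)) ∧
      ∀ g : Γ, Commute (prodw gc (rels.getD ρ [])) g)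
    (hsubs : ∀ s, s < subs.length → prodw gc (subs.getD s []) = ι (gen s)) :
    ι (gen (subs.length + 1)) = ι (dsem gen 65536 2 0 [131072, 131072, 131071, 131072, 131072, 131072, 131074, 131072, 131072, 131072, 131070, 131072, 131072, 131072, 131072, 131072]) := by
  obtain ⟨S, hcl⟩ := closedL gc ι gen hinv hrels hsubs
  have hw : [2, 2] = (rels.getD 1 []).rotate 0 := by decide
  obtain ⟨h1, h2⟩ := hrels 1 (by decide)
  have hcen : ∀ g : Γ, Commute (prodw gc [2, 2]) g := by
    rw [hw, prodw_rotate_central h2]; exact h2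
  have h3 := face_spec S hcl (w := [2, 2]) (b := 4872) (expected := 10086913886890446232373323145094571038684669582414013775660863295379187783935964637839113347173488829287611256803557376) (by norm_num) (by decide) (by norm_num)
    [131072, 131072, 131071, 131072, 131072, 131072, 131074, 131072, 131072, 131072, 131070, 131072, 131072, 131072, 131072, 131072] (by decide) (by decide) (by decide +kernel) hcen okF2
  rw [← h1, ← prodw_rotate_central h2 0, ← hw]
  exact h3


theorem face3 {Γ : Type*} [Group Γ] {C : Type*} [CommGroup C] (gc : ℕ → Γ) (ι : C →* Γ) (gen : ℕ → C)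
    (hinv : ∀ l, l < 4 → gc (invF l) = (gc l)⁻¹)
    (hrels : ∀ ρ, ρ < rels.length → prodw gc (rels.getD ρ []) = ι (gen (subs.length + ρ)) ∧
      ∀ g : Γ, Commute (prodw gc (rels.getD ρ [])) g)
    (hsubs : ∀ s, s < subs.length → prodw gc (subs.getD s []) = ι (gen s)) :
    ι (gen (subs.length + 1)) = ι (dsem gen 65536 2 0 [131072, 131072, 131075, 131072, 131072, 131072, 131074, 131072, 131072, 131072, 131072, 131070, 131072, 131072, 131072, 131072]) := by
  obtain ⟨S, hcl⟩ := closedL gc ι gen hinv hrels hsubs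
  have hw : [2, 2] = (rels.getD 1 []).rotate 0 := by decide
  obtain ⟨h1, h2⟩ := hrels 1 (by decide)
  have hcen : ∀ g : Γ, Commute (prodw gc [2, 2]) g := by
    rw [hw, prodw_rotate_central h2]; exact h2
  have h3 := face_spec S hcl (w := [2, 2]) (b := 12149) (expected := 10086913886890446232373323145094570917267867436808735509325601105502537640282657611767414070202839453660097278390697984) (by norm_num) (by decide) (by norm_num)
    [131072, 131072, 131075, 131072, 131072, 131072, 131074, 131072, 131072, 131072, 131072, 131070, 131072, 131072, 131072, 131072] (by decide) (by decide) (by decide +kernel) hcen okF3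
  rw [← h1, ← prodw_rotate_central h2 0, ← hw]
  exact h3


theorem face4 {Γ : Type*} [Group Γ] {C : Type*} [CommGroup C] (gc : ℕ → Γ) (ι : C →* Γ) (gen : ℕ → C)
    (hinv : ∀ l, l < 4 → gc (invF l) = (gc l)⁻¹)
    (hrels : ∀ ρ, ρ < rels.length → prodw gc (rels.getD ρ []) = ι (gen (subs.length + ρ)) ∧
      ∀ g : Γ, Commute (prodw gc (rels.getD ρ [])) g)
    (hsubs : ∀ s, s < subs.length → prodw gc (subs.getD s []) = ι (gen s)) :
    ι (gen (subs.length + 1)) = ι (dsem gen 65536 2 0 [131072, 131072, 131071, 131072, 131072, 131072, 131072, 131072, 131070, 131072, 131074, 131072, 131072, 131072, 131072, 131072]) := by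
  obtain ⟨S, hcl⟩ := closedL gc ι gen hinv hrels hsubs
  have hw : [2, 2] = (rels.getD 1 []).rotate 0 := by decide
  obtain ⟨h1, h2⟩ := hrels 1 (by decide)
  have hcen : ∀ g : Γ, Commute (prodw gc [2, 2]) g := by
    rw [hw, prodw_rotate_central h2]; exact h2
  have h3 := face_spec S hcl (w := [2, 2]) (b := 18769) (expected := 10086913886890446232373323145094571038684676819419591107919863392477232843524626157616552862387124950500055892938063872) (by norm_num) (by decide) (by norm_num)
    [131072, 131072, 131071, 131072, 131072, 131072, 131072, 131072, 131070, 131072, 131074, 131072, 131072, 131072, 131072, 131072] (by decide) (by decide) (by decide +kernel) hcen okF4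
  rw [← h1, ← prodw_rotate_central h2 0, ← hw]
  exact h3


theorem face5 {Γ : Type*} [Group Γ] {C : Type*} [CommGroup C] (gc : ℕ → Γ) (ι : C →* Γ) (gen : ℕ → C)
    (hinv : ∀ l, l < 4 → gc (invF l) = (gc l)⁻¹)
    (hrels : ∀ ρ, ρ < rels.length → prodw gc (rels.getD ρ []) = ι (gen (subs.length + ρ)) ∧
      ∀ g : Γ, Commute (prodw gc (rels.getD ρ [])) g)
    (hsubs : ∀ s, s < subs.length → prodw gc (subs.getD s []) = ι (gen s)) :
    ι (gen (subs.length + 12)) = ι (dsem gen 65536 30 0 [1966080, 1966080, 1966080, 1966080, 1966080, 1966080, 1966080, 1966083, 1966079, 1966080, 1966080, 1966080, 1966080, 1966078, 1966080, 1966080]) := by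
  obtain ⟨S, hcl⟩ := closedL gc ι gen hinv hrels hsubs
  have hw : [0, 0, 2, 1, 1, 1, 1, 1, 2, 1, 1, 1, 1, 1, 2, 0, 0, 2, 1, 1, 1, 1, 1, 2, 1, 1, 1, 1, 1, 2] = (rels.getD 12 []).rotate 1 := by decide
  obtain ⟨h1, h2⟩ := hrels 12 (by decide)
  have hcen : ∀ g : Γ, Commute (prodw gc [0, 0, 2, 1, 1, 1, 1, 1, 2, 1, 1, 1, 1, 1, 2, 0, 0, 2, 1, 1, 1, 1, 1, 2, 1, 1, 1, 1, 1, 2]) g := by
    rw [hw, prodw_rotate_central h2]; exact h2
  have h3 := face_spec S hcl (w := [0, 0, 2, 1, 1, 1, 1, 1, 2, 1, 1, 1, 1, 1, 2, 0, 0, 2, 1, 1, 1, 1, 1, 2, 1, 1, 1, 1, 1, 2]) (b := 3902) (expected := 151303708303356693485463144006119627334996816624557185291543374202255626228082869462191347603611005139357711394758590464) (by norm_num) (by decide) (by norm_num)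
    [1966080, 1966080, 1966080, 1966080, 1966080, 1966080, 1966080, 1966083, 1966079, 1966080, 1966080, 1966080, 1966080, 1966078, 1966080, 1966080] (by decide) (by decide) (by decide +kernel) hcen okF5
  rw [← h1, ← prodw_rotate_central h2 1, ← hw]
  exact h3


theorem face6 {Γ : Type*} [Group Γ] {C : Type*} [CommGroup C] (gc : ℕ → Γ) (ι : C →* Γ) (gen : ℕ → C)
    (hinv : ∀ l, l < 4 → gc (invF l) = (gc l)⁻¹)
    (hrels : ∀ ρ, ρ < rels.length → prodw gc (rels.getD ρ []) = ι (gen (subs.length + ρ)) ∧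
      ∀ g : Γ, Commute (prodw gc (rels.getD ρ [])) g)
    (hsubs : ∀ s, s < subs.length → prodw gc (subs.getD s []) = ι (gen s)) :
    ι (gen (subs.length + 1)) = ι (dsem gen 65536 2 0 [131072, 131072, 131070, 131072, 131072, 131072, 131072, 131072, 131072, 131072, 131072, 131072, 131072, 131075, 131070, 131072]) := by
  obtain ⟨S, hcl⟩ := closedL gc ι gen hinv hrels hsubs
  have hw : [2, 2] = (rels.getD 1 []).rotate 0 := by decide
  obtain ⟨h1, h2⟩ := hrels 1 (by decide)
  have hcen : ∀ g : Γ, Commute (prodw gc [2, 2]) g := by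
    rw [hw, prodw_rotate_central h2]; exact h2
  have h3 := face_spec S hcl (w := [2, 2]) (b := 6440) (expected := 10086913886885859235346397757519756764803991110827486314815493353871232790814731815712970510383344579132979440389324800) (by norm_num) (by decide) (by norm_num)
    [131072, 131072, 131070, 131072, 131072, 131072, 131072, 131072, 131072, 131072, 131072, 131072, 131072, 131075, 131070, 131072] (by decide) (by decide) (by decide +kernel) hcen okF6
  rw [← h1, ← prodw_rotate_central h2 0, ← hw]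
  exact h3


theorem face7 {Γ : Type*} [Group Γ] {C : Type*} [CommGroup C] (gc : ℕ → Γ) (ι : C →* Γ) (gen : ℕ → C)
    (hinv : ∀ l, l < 4 → gc (invF l) = (gc l)⁻¹)
    (hrels : ∀ ρ, ρ < rels.length → prodw gc (rels.getD ρ []) = ι (gen (subs.length + ρ)) ∧
      ∀ g : Γ, Commute (prodw gc (rels.getD ρ [])) g)
    (hsubs : ∀ s, s < subs.length → prodw gc (subs.getD s []) = ι (gen s)) :
    ι (gen (subs.length + 1)) = ι (dsem gen 65536 2 0 [131072, 131072, 131073, 131068, 131074, 131074, 131072, 131072, 131072, 131072, 131072, 131072, 131072, 131072, 131072, 131072]) := by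
  obtain ⟨S, hcl⟩ := closedL gc ι gen hinv hrels hsubs
  have hw : [2, 2] = (rels.getD 1 []).rotate 0 := by decide
  obtain ⟨h1, h2⟩ := hrels 1 (by decide)
  have hcen : ∀ g : Γ, Commute (prodw gc [2, 2]) g := by
    rw [hw, prodw_rotate_central h2]; exact h2
  have h3 := face_spec S hcl (w := [2, 2]) (b := 23920) (expected := 10086913886890446232373323145094571038684673200916802441791970281972469302578589752184808651860208330015376053838675968) (by norm_num) (by decide) (by norm_num)
    [131072, 131072, 131073, 131068, 131074, 131074, 131072, 131072, 131072, 131072, 131072, 131072, 131072, 131072, 131072, 131072] (by decide) (by decide) (by decide +kernel) hcen okF7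
  rw [← h1, ← prodw_rotate_central h2 0, ← hw]
  exact h3


theorem face8 {Γ : Type*} [Group Γ] {C : Type*} [CommGroup C] (gc : ℕ → Γ) (ι : C →* Γ) (gen : ℕ → C)
    (hinv : ∀ l, l < 4 → gc (invF l) = (gc l)⁻¹)
    (hrels : ∀ ρ, ρ < rels.length → prodw gc (rels.getD ρ []) = ι (gen (subs.length + ρ)) ∧
      ∀ g : Γ, Commute (prodw gc (rels.getD ρ [])) g)
    (hsubs : ∀ s, s < subs.length → prodw gc (subs.getD s []) = ι (gen s)) :
    ι (gen (subs.length + 0)) = ι (dsem gen 65536 11 0 [720907, 720896, 720896, 720896, 720896, 720896, 720896, 720896, 720896, 720896, 720896, 720896, 720896, 720896, 720896, 720896]) := by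
  obtain ⟨S, hcl⟩ := closedL gc ι gen hinv hrels hsubs
  have hw : [0, 0, 0, 0, 0, 0, 0, 0, 0, 0, 0] = (rels.getD 0 []).rotate 0 := by decide
  obtain ⟨h1, h2⟩ := hrels 0 (by decide)
  have hcen : ∀ g : Γ, Commute (prodw gc [0, 0, 0, 0, 0, 0, 0, 0, 0, 0, 0]) g := by
    rw [hw, prodw_rotate_central h2]; exact h2
  have h3 := face_spec S hcl (w := [0, 0, 0, 0, 0, 0, 0, 0, 0, 0, 0]) (b := 0) (expected := 55478026377897454278053277298020140712765702605042413429855836550848581164182243169128179124784987178915859221766144011) (by norm_num) (by decide) (by norm_num)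
    [720907, 720896, 720896, 720896, 720896, 720896, 720896, 720896, 720896, 720896, 720896, 720896, 720896, 720896, 720896, 720896] (by decide) (by decide) (by decide +kernel) hcen okF8
  rw [← h1, ← prodw_rotate_central h2 0, ← hw]
  exact h3


theorem face9 {Γ : Type*} [Group Γ] {C : Type*} [CommGroup C] (gc : ℕ → Γ) (ι : C →* Γ) (gen : ℕ → C)
    (hinv : ∀ l, l < 4 → gc (invF l) = (gc l)⁻¹)
    (hrels : ∀ ρ, ρ < rels.length → prodw gc (rels.getD ρ []) = ι (gen (subs.length + ρ)) ∧
      ∀ g : Γ, Commute (prodw gc (rels.getD ρ [])) g)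
    (hsubs : ∀ s, s < subs.length → prodw gc (subs.getD s []) = ι (gen s)) :
    ι (gen (subs.length + 1)) = ι (dsem gen 65536 2 0 [131072, 131072, 131073, 131080, 131072, 131072, 131072, 131072, 131072, 131069, 131072, 131070, 131072, 131072, 131072, 131072]) := by
  obtain ⟨S, hcl⟩ := closedL gc ι gen hinv hrels hsubs
  have hw : [2, 2] = (rels.getD 1 []).rotate 0 := by decide
  obtain ⟨h1, h2⟩ := hrels 1 (by decide)
  have hcen : ∀ g : Γ, Commute (prodw gc [2, 2]) g := by
    rw [hw, prodw_rotate_central h2]; exact h2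
  have h3 := face_spec S hcl (w := [2, 2]) (b := 19068) (expected := 10086913886890446232373323145094570917267867436808573749645598201663769635337640108571452485220034502778872241443700736) (by norm_num) (by decide) (by norm_num)
    [131072, 131072, 131073, 131080, 131072, 131072, 131072, 131072, 131072, 131069, 131072, 131070, 131072, 131072, 131072, 131072] (by decide) (by decide) (by decide +kernel) hcen okF9
  rw [← h1, ← prodw_rotate_central h2 0, ← hw]
  exact h3


theorem face10 {Γ : Type*} [Group Γ] {C : Type*} [CommGroup C] (gc : ℕ → Γ) (ι : C →* Γ) (gen : ℕ → C)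
    (hinv : ∀ l, l < 4 → gc (invF l) = (gc l)⁻¹)
    (hrels : ∀ ρ, ρ < rels.length → prodw gc (rels.getD ρ []) = ι (gen (subs.length + ρ)) ∧
      ∀ g : Γ, Commute (prodw gc (rels.getD ρ [])) g)
    (hsubs : ∀ s, s < subs.length → prodw gc (subs.getD s []) = ι (gen s)) :
    ι (gen (subs.length + 12)) = ι (dsem gen 65536 30 0 [1966080, 1966082, 1966079, 1966083, 1966085, 1966078, 1966080, 1966080, 1966079, 1966079, 1966079, 1966079, 1966081, 1966080, 1966082, 1966080]) := by
  obtain ⟨S, hcl⟩ := closedL gc ι gen hinv hrels hsubs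
  have hw : [0, 0, 2, 1, 1, 1, 1, 1, 2, 1, 1, 1, 1, 1, 2, 0, 0, 2, 1, 1, 1, 1, 1, 2, 1, 1, 1, 1, 1, 2] = (rels.getD 12 []).rotate 1 := by decide
  obtain ⟨h1, h2⟩ := hrels 12 (by decide)
  have hcen : ∀ g : Γ, Commute (prodw gc [0, 0, 2, 1, 1, 1, 1, 1, 2, 1, 1, 1, 1, 1, 2, 0, 0, 2, 1, 1, 1, 1, 1, 2, 1, 1, 1, 1, 1, 2]) g := by
    rw [hw, prodw_rotate_central h2]; exact h2
  have h3 := face_spec S hcl (w := [0, 0, 2, 1, 1, 1, 1, 1, 2, 1, 1, 1, 1, 1, 2, 0, 0, 2, 1, 1, 1, 1, 1, 2, 1, 1, 1, 1, 1, 2]) (b := 4486) (expected := 151303708303361280482831827321478823137686783582596593726073589632030528192394065088954388945212848595551828486867779584) (by norm_num) (by decide) (by norm_num)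
    [1966080, 1966082, 1966079, 1966083, 1966085, 1966078, 1966080, 1966080, 1966079, 1966079, 1966079, 1966079, 1966081, 1966080, 1966082, 1966080] (by decide) (by decide) (by decide +kernel) hcen okF10
  rw [← h1, ← prodw_rotate_central h2 1, ← hw]
  exact h3


theorem face11 {Γ : Type*} [Group Γ] {C : Type*} [CommGroup C] (gc : ℕ → Γ) (ι : C →* Γ) (gen : ℕ → C)
    (hinv : ∀ l, l < 4 → gc (invF l) = (gc l)⁻¹)
    (hrels : ∀ ρ, ρ < rels.length → prodw gc (rels.getD ρ []) = ι (gen (subs.length + ρ)) ∧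
      ∀ g : Γ, Commute (prodw gc (rels.getD ρ [])) g)
    (hsubs : ∀ s, s < subs.length → prodw gc (subs.getD s []) = ι (gen s)) :
    ι (gen (subs.length + 9)) = ι (dsem gen 65536 24 0 [1572864, 1572872, 1572862, 1572864, 1572860, 1572864, 1572864, 1572864, 1572862, 1572868, 1572863, 1572864, 1572866, 1572864, 1572864, 1572864]) := by
  obtain ⟨S, hcl⟩ := closedL gc ι gen hinv hrels hsubs
  have hw : [0, 0, 2, 0, 0, 2, 1, 1, 2, 1, 1, 2, 0, 0, 2, 0, 0, 2, 1, 1, 2, 1, 1, 2] = (rels.getD 9 []).rotate 1 := by decide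
  obtain ⟨h1, h2⟩ := hrels 9 (by decide)
  have hcen : ∀ g : Γ, Commute (prodw gc [0, 0, 2, 0, 0, 2, 1, 1, 2, 1, 1, 2, 0, 0, 2, 0, 0, 2, 1, 1, 2, 1, 1, 2]) g := by
    rw [hw, prodw_rotate_central h2]; exact h2
  have h3 := face_spec S hcl (w := [0, 0, 2, 0, 0, 2, 1, 1, 2, 1, 1, 2, 0, 0, 2, 0, 0, 2, 1, 1, 2, 1, 1, 2]) (b := 1679) (expected := 121042966642685354788479877745208924416885048774287342024826969541505767013096000532160044835317401969945314320339959808) (by norm_num) (by decide) (by norm_num)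
    [1572864, 1572872, 1572862, 1572864, 1572860, 1572864, 1572864, 1572864, 1572862, 1572868, 1572863, 1572864, 1572866, 1572864, 1572864, 1572864] (by decide) (by decide) (by decide +kernel) hcen okF11
  rw [← h1, ← prodw_rotate_central h2 1, ← hw]
  exact h3


theorem face12 {Γ : Type*} [Group Γ] {C : Type*} [CommGroup C] (gc : ℕ → Γ) (ι : C →* Γ) (gen : ℕ → C)
    (hinv : ∀ l, l < 4 → gc (invF l) = (gc l)⁻¹)
    (hrels : ∀ ρ, ρ < rels.length → prodw gc (rels.getD ρ []) = ι (gen (subs.length + ρ)) ∧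
      ∀ g : Γ, Commute (prodw gc (rels.getD ρ [])) g)
    (hsubs : ∀ s, s < subs.length → prodw gc (subs.getD s []) = ι (gen s)) :
    ι (gen (subs.length + 10)) = ι (dsem gen 65536 24 0 [1572864, 1572862, 1572859, 1572869, 1572865, 1572862, 1572864, 1572866, 1572866, 1572864, 1572862, 1572865, 1572863, 1572864, 1572862, 1572864]) := by
  obtain ⟨S, hcl⟩ := closedL gc ι gen hinv hrels hsubs
  have hw : [0, 2, 0, 2, 1, 2, 1, 2, 0, 2, 0, 2, 1, 2, 1, 2, 0, 2, 0, 2, 1, 2, 1, 2] = (rels.getD 10 []).rotate 1 := by decide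
  obtain ⟨h1, h2⟩ := hrels 10 (by decide)
  have hcen : ∀ g : Γ, Commute (prodw gc [0, 2, 0, 2, 1, 2, 1, 2, 0, 2, 0, 2, 1, 2, 1, 2, 0, 2, 0, 2, 1, 2, 1, 2]) g := by
    rw [hw, prodw_rotate_central h2]; exact h2
  have h3 := face_spec S hcl (w := [0, 2, 0, 2, 1, 2, 1, 2, 0, 2, 0, 2, 1, 2, 1, 2, 0, 2, 0, 2, 1, 2, 1, 2]) (b := 4993) (expected := 121042966642680767791247897596074594906799387414402835283221220138196671322531661107436083006593619702695838988358909952) (by norm_num) (by decide) (by norm_num)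
    [1572864, 1572862, 1572859, 1572869, 1572865, 1572862, 1572864, 1572866, 1572866, 1572864, 1572862, 1572865, 1572863, 1572864, 1572862, 1572864] (by decide) (by decide) (by decide +kernel) hcen okF12
  rw [← h1, ← prodw_rotate_central h2 1, ← hw]
  exact h3


theorem face13 {Γ : Type*} [Group Γ] {C : Type*} [CommGroup C] (gc : ℕ → Γ) (ι : C →* Γ) (gen : ℕ → C)
    (hinv : ∀ l, l < 4 → gc (invF l) = (gc l)⁻¹)
    (hrels : ∀ ρ, ρ < rels.length → prodw gc (rels.getD ρ []) = ι (gen (subs.length + ρ)) ∧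
      ∀ g : Γ, Commute (prodw gc (rels.getD ρ [])) g)
    (hsubs : ∀ s, s < subs.length → prodw gc (subs.getD s []) = ι (gen s)) :
    ι (gen (subs.length + 9)) = ι (dsem gen 65536 24 0 [1572864, 1572862, 1572856, 1572871, 1572866, 1572860, 1572864, 1572864, 1572864, 1572864, 1572864, 1572865, 1572864, 1572863, 1572864, 1572864]) := by
  obtain ⟨S, hcl⟩ := closedL gc ι gen hinv hrels hsubs
  have hw : [0, 0, 2, 0, 0, 2, 1, 1, 2, 1, 1, 2, 0, 0, 2, 0, 0, 2, 1, 1, 2, 1, 1, 2] = (rels.getD 9 []).rotate 1 := by decide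
  obtain ⟨h1, h2⟩ := hrels 9 (by decide)
  have hcen : ∀ g : Γ, Commute (prodw gc [0, 0, 2, 0, 0, 2, 1, 1, 2, 1, 1, 2, 0, 0, 2, 0, 0, 2, 1, 1, 2, 1, 1, 2]) g := by
    rw [hw, prodw_rotate_central h2]; exact h2
  have h3 := face_spec S hcl (w := [0, 0, 2, 0, 0, 2, 1, 1, 2, 1, 1, 2, 0, 0, 2, 0, 0, 2, 1, 1, 2, 1, 1, 2]) (b := 2333) (expected := 121042966642685354788411526155985383402287840598458237100069541427189184574879984224158440718620907965296522478975713280) (by norm_num) (by decide) (by norm_num)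
    [1572864, 1572862, 1572856, 1572871, 1572866, 1572860, 1572864, 1572864, 1572864, 1572864, 1572864, 1572865, 1572864, 1572863, 1572864, 1572864] (by decide) (by decide) (by decide +kernel) hcen okF13
  rw [← h1, ← prodw_rotate_central h2 1, ← hw]
  exact h3


theorem face14 {Γ : Type*} [Group Γ] {C : Type*} [CommGroup C] (gc : ℕ → Γ) (ι : C →* Γ) (gen : ℕ → C)
    (hinv : ∀ l, l < 4 → gc (invF l) = (gc l)⁻¹)
    (hrels : ∀ ρ, ρ < rels.length → prodw gc (rels.getD ρ []) = ι (gen (subs.length + ρ)) ∧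
      ∀ g : Γ, Commute (prodw gc (rels.getD ρ [])) g)
    (hsubs : ∀ s, s < subs.length → prodw gc (subs.getD s []) = ι (gen s)) :
    ι (gen (subs.length + 2)) = ι (dsem gen 65536 12 0 [786432, 786430, 786428, 786440, 786426, 786432, 786432, 786428, 786435, 786431, 786432, 786433, 786432, 786430, 786434, 786432]) := by
  obtain ⟨S, hcl⟩ := closedL gc ι gen hinv hrels hsubs
  have hw : [1, 2, 1, 2, 1, 2, 1, 2, 1, 2, 1, 2] = (rels.getD 2 []).rotate 1 := by decide
  obtain ⟨h1, h2⟩ := hrels 2 (by decide)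
  have hcen : ∀ g : Γ, Commute (prodw gc [1, 2, 1, 2, 1, 2, 1, 2, 1, 2, 1, 2]) g := by
    rw [hw, prodw_rotate_central h2]; exact h2
  have h3 := face_spec S hcl (w := [1, 2, 1, 2, 1, 2, 1, 2, 1, 2, 1, 2]) (b := 4014) (expected := 60521483321347264391335215843291709689333764872241535991740256265548056742637130645637076493454209328839027236245602304) (by norm_num) (by decide) (by norm_num)
    [786432, 786430, 786428, 786440, 786426, 786432, 786432, 786428, 786435, 786431, 786432, 786433, 786432, 786430, 786434, 786432] (by decide) (by decide) (by decide +kernel) hcen okF14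
  rw [← h1, ← prodw_rotate_central h2 1, ← hw]
  exact h3


theorem face15 {Γ : Type*} [Group Γ] {C : Type*} [CommGroup C] (gc : ℕ → Γ) (ι : C →* Γ) (gen : ℕ → C)
    (hinv : ∀ l, l < 4 → gc (invF l) = (gc l)⁻¹)
    (hrels : ∀ ρ, ρ < rels.length → prodw gc (rels.getD ρ []) = ι (gen (subs.length + ρ)) ∧
      ∀ g : Γ, Commute (prodw gc (rels.getD ρ [])) g)
    (hsubs : ∀ s, s < subs.length → prodw gc (subs.getD s []) = ι (gen s)) :
    ι (gen (subs.length + 3)) = ι (dsem gen 65536 20 0 [1310720, 1310716, 1310718, 1310718, 1310722, 1310721, 1310722, 1310728, 1310722, 1310720, 1310720, 1310716, 1310719, 1310722, 1310712, 1310720]) := by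
  obtain ⟨S, hcl⟩ := closedL gc ι gen hinv hrels hsubs
  have hw : [0, 0, 0, 0, 2, 1, 1, 1, 1, 2, 0, 0, 0, 0, 2, 1, 1, 1, 1, 2] = (rels.getD 3 []).rotate 1 := by decide
  obtain ⟨h1, h2⟩ := hrels 3 (by decide)
  have hcen : ∀ g : Γ, Commute (prodw gc [0, 0, 0, 0, 2, 1, 1, 1, 1, 2, 0, 0, 0, 0, 2, 1, 1, 1, 1, 2]) g := by
    rw [hw, prodw_rotate_central h2]; exact h2
  have h3 := face_spec S hcl (w := [0, 0, 0, 0, 2, 1, 1, 1, 1, 2, 0, 0, 0, 0, 2, 1, 1, 1, 1, 2]) (b := 4462) (expected := 100869138868886114334942014047114725845789499088351923680002027022645928237002672385601964685927526036348579370627235840) (by norm_num) (by decide) (by norm_num)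
    [1310720, 1310716, 1310718, 1310718, 1310722, 1310721, 1310722, 1310728, 1310722, 1310720, 1310720, 1310716, 1310719, 1310722, 1310712, 1310720] (by decide) (by decide) (by decide +kernel) hcen okF15
  rw [← h1, ← prodw_rotate_central h2 1, ← hw]
  exact h3


theorem face16 {Γ : Type*} [Group Γ] {C : Type*} [CommGroup C] (gc : ℕ → Γ) (ι : C →* Γ) (gen : ℕ → C)
    (hinv : ∀ l, l < 4 → gc (invF l) = (gc l)⁻¹)
    (hrels : ∀ ρ, ρ < rels.length → prodw gc (rels.getD ρ []) = ι (gen (subs.length + ρ)) ∧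
      ∀ g : Γ, Commute (prodw gc (rels.getD ρ [])) g)
    (hsubs : ∀ s, s < subs.length → prodw gc (subs.getD s []) = ι (gen s)) :
    ι (gen (subs.length + 6)) = ι (dsem gen 65536 24 0 [1572864, 1572860, 1572858, 1572864, 1572863, 1572867, 1572864, 1572855, 1572863, 1572863, 1572868, 1572866, 1572864, 1572867, 1572866, 1572864]) := by
  obtain ⟨S, hcl⟩ := closedL gc ι gen hinv hrels hsubs
  have hw : [1, 2, 1, 1, 1, 2, 1, 2, 1, 1, 1, 2, 1, 2, 1, 1, 1, 2, 1, 2, 1, 1, 1, 2] = (rels.getD 6 []).rotate 1 := by decide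
  obtain ⟨h1, h2⟩ := hrels 6 (by decide)
  have hcen : ∀ g : Γ, Commute (prodw gc [1, 2, 1, 1, 1, 2, 1, 2, 1, 1, 1, 2, 1, 2, 1, 1, 1, 2, 1, 2, 1, 1, 1, 2]) g := by
    rw [hw, prodw_rotate_central h2]; exact h2
  have h3 := face_spec S hcl (w := [1, 2, 1, 1, 1, 2, 1, 2, 1, 1, 1, 2, 1, 2, 1, 1, 1, 2, 1, 2, 1, 1, 1, 2]) (b := 350) (expected := 121042966642689941785916912639606481595333417669789089779317481489964977487507187000445357169383058914457714018842312704) (by norm_num) (by decide) (by norm_num)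
    [1572864, 1572860, 1572858, 1572864, 1572863, 1572867, 1572864, 1572855, 1572863, 1572863, 1572868, 1572866, 1572864, 1572867, 1572866, 1572864] (by decide) (by decide) (by decide +kernel) hcen okF16
  rw [← h1, ← prodw_rotate_central h2 1, ← hw]
  exact h3


theorem face17 {Γ : Type*} [Group Γ] {C : Type*} [CommGroup C] (gc : ℕ → Γ) (ι : C →* Γ) (gen : ℕ → C)
    (hinv : ∀ l, l < 4 → gc (invF l) = (gc l)⁻¹)
    (hrels : ∀ ρ, ρ < rels.length → prodw gc (rels.getD ρ []) = ι (gen (subs.length + ρ)) ∧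
      ∀ g : Γ, Commute (prodw gc (rels.getD ρ [])) g)
    (hsubs : ∀ s, s < subs.length → prodw gc (subs.getD s []) = ι (gen s)) :
    ι (gen (subs.length + 10)) = ι (dsem gen 65536 24 0 [1572864, 1572860, 1572865, 1572870, 1572873, 1572861, 1572863, 1572856, 1572863, 1572866, 1572863, 1572866, 1572863, 1572865, 1572866, 1572864]) := by
  obtain ⟨S, hcl⟩ := closedL gc ι gen hinv hrels hsubs
  have hw : [0, 2, 0, 2, 1, 2, 1, 2, 0, 2, 0, 2, 1, 2, 1, 2, 0, 2, 0, 2, 1, 2, 1, 2] = (rels.getD 10 []).rotate 1 := by decide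
  obtain ⟨h1, h2⟩ := hrels 10 (by decide)
  have hcen : ∀ g : Γ, Commute (prodw gc [0, 2, 0, 2, 1, 2, 1, 2, 0, 2, 0, 2, 1, 2, 1, 2, 0, 2, 0, 2, 1, 2, 1, 2]) g := by
    rw [hw, prodw_rotate_central h2]; exact h2
  have h3 := face_spec S hcl (w := [0, 2, 0, 2, 1, 2, 1, 2, 0, 2, 0, 2, 1, 2, 1, 2, 0, 2, 0, 2, 1, 2, 1, 2]) (b := 1443) (expected := 121042966642689941785780209467270507373725641148068982849925765676886137999137172246881060426618728831204752639252758528) (by norm_num) (by decide) (by norm_num)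
    [1572864, 1572860, 1572865, 1572870, 1572873, 1572861, 1572863, 1572856, 1572863, 1572866, 1572863, 1572866, 1572863, 1572865, 1572866, 1572864] (by decide) (by decide) (by decide +kernel) hcen okF17
  rw [← h1, ← prodw_rotate_central h2 1, ← hw]
  exact h3


theorem pairAll : ∀ i, i < 80640 → pairChk 131072 262144 262144 16777216 4398046511104 ent wk i = true := by
  intro i hi
  have hp : i / 1008 < 80 := by omega
  have h1 : i / 1008 * 1008 ≤ i := Nat.div_mul_le_self i 1008
  have h2 : i < i / 1008 * 1008 + 1008 := by omega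
  exact pairRows_spec wk (i / 1008 * 1008) 1008 (okP_all (i / 1008) hp) i h1 h2 hi

theorem wk2_eq : wk2 = wk ++ wk := by decide

theorem wk_mem : rels.getD 14 [] = wk := by decide

theorem faceK {Γ : Type*} [Group Γ] {C : Type*} [CommGroup C] (gc : ℕ → Γ) (ι : C →* Γ) (gen : ℕ → C)
    (hinv : ∀ l, l < 4 → gc (invF l) = (gc l)⁻¹)
    (hrels : ∀ ρ, ρ < rels.length → prodw gc (rels.getD ρ []) = ι (gen (subs.length + ρ)) ∧
      ∀ g : Γ, Commute (prodw gc (rels.getD ρ [])) g)
    (hsubs : ∀ s, s < subs.length → prodw gc (subs.getD s []) = ι (gen s)) :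
    ι (gen (subs.length + 14)) * ι (gen (subs.length + 14)) = ι (dsem gen 65536 72 0 [4709000, 4695806, 4871227, 4706358, 4709907, 4728686, 4715905, 4723808, 4724511, 4714981, 4715025, 4705248, 4713274, 4718250, 4707578, 4718592]) := by
  obtain ⟨S, hcl⟩ := closedL gc ι gen hinv hrels hsubs
  obtain ⟨h1, h2⟩ := hrels 14 (by decide)
  rw [wk_mem] at h1 h2
  have hww : prodw gc wk2 = prodw gc wk * prodw gc wk := by
    rw [wk2_eq, prodw_append]
  have hcen : ∀ g : Γ, Commute (prodw gc wk2) g := by
    intro g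
    rw [hww]
    exact (h2 g).mul_left (h2 g)
  have h3 := face_spec S hcl (w := wk2) (b := 0) (expected := 363128899902795470585548732640446403870328413610216907624763271706449950096406291697994054776847471996913557985171069576) (by norm_num) (by decide) (by decide)
    [4709000, 4695806, 4871227, 4706358, 4709907, 4728686, 4715905, 4723808, 4724511, 4714981, 4715025, 4705248, 4713274, 4718250, 4707578, 4718592] (by decide) (by decide) (by decide +kernel) hcen okFK
  rw [← h1, ← hww]
  exact h3

end Cfsg.Agent.Helper19.SchM22
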