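import Mathlib

import Cfsg.Agent.Helper19.SchM22.Facts
import Cfsg.Agent.Helper19.Schur.Cover
import Cfsg.Agent.Helper19.Schur.FinSum
import Cfsg.Agent.Helper19.TCR.Pair

/-! The upper half for the Schur multiplier of `M₂₂` (cyclic of order twelve): instance of the labelled Todd–Coxeter
pipeline, and the lattice computations. (generated) -/

set_option autoImplicit false
set_option linter.all false
set_option maxRecDepth 100000
set_option maxHeartbeats 0

namespace Cfsg.Agent.Helper19.SchM22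

open Cfsg Cfsg.Agent.Helper19.TCS Cfsg.Agent.Helper19.TCL
  Cfsg.Agent.Helper19.Schur

universe u

theorem invF_eq : ∀ l, l < 4 → invF l = inv4 l := by
  intro l hl
  interval_cases l <;> rfl

theorem prodw_replicate {Δ : Type*} [Group Δ] (gc : ℕ → Δ) (l n : ℕ) :
    prodw gc (List.replicate n l) = gc l ^ n := by
  induction n with
  | zero => simp [prodw]
  | succ n ih => rw [List.replicate_succ, prodw, ih, pow_succ]

theorem hcen_of_trivial {Δ : Type u} [Group Δ] (a b : Δ)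
    (h : ∀ w ∈ rels, prodw (gc2 a b) w = 1) :
    ∀ ρ g, Commute (prodw (gc2 a b) (rels.getD ρ [])) g := by
  intro ρ g
  have : prodw (gc2 a b) (rels.getD ρ []) = 1 :=
    forall_getD_of_forall_mem (fun w => prodw (gc2 a b) w = 1) rels [] h rfl ρ
  rw [this]
  exact Commute.one_left g

theorem closedL' {Δ : Type u} [Group Δ] (a b : Δ)
    (hcen : ∀ ρ g, Commute (prodw (gc2 a b) (rels.getD ρ [])) g) :
    SemL 80640 4 262144 16 33554432 131072 65536 5043456943445223116186661572547285519342336600458401220895985140986234651289294833557107193162271561719623565615104000 invF 92 rotsF subsF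
        (gc2 a b) (iotaC (gfam a b rels 16) (gfam_comm a b rels 16 hcen)) (genC 16) ∧
      ∀ i l, i < 80640 → l < 4 →
        FactL (gc2 a b) (iotaC (gfam a b rels 16) (gfam_comm a b rels 16 hcen)) (genC 16)
          80640 131072 4398046511104 16 33554432 131072 65536 ent parF pletF i l :=
  closedL (gc2 a b) _ (genC 16) (gc2_invF a b invF invF_eq)
    (bridge_rels a b rels 16 (by decide) hcen) (bridge_subs a b rels 16 (by norm_num) hcen)

theorem hT1 (Δ : Type u) [Group Δ] (a b : Δ)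
    (hgen : Subgroup.closure {a, b} = (⊤ : Subgroup Δ))
    (hrel : ∀ w ∈ rels, prodw (gc2 a b) w = 1) : Finite Δ ∧ Nat.card Δ ≤ 443520 := by
  have hcen := hcen_of_trivial a b hrel
  obtain ⟨S, hcl⟩ := closedL' a b hcen
  have ha : a ^ 11 = 1 := by
    have h1 := hrel (List.replicate 11 0) (by decide)
    rw [prodw_replicate] at h1
    exact h1
  have hι : ∀ c, iotaC (gfam a b rels 16) (gfam_comm a b rels 16 hcen) c ∈ Subgroup.zpowers a := by
    intro c
    apply iotaC_mem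
    intro i
    unfold gfam
    split_ifs with h
    · exact Subgroup.mem_zpowers a
    · have : prodw (gc2 a b) (rels.getD ((i : ℕ) - 1) []) = 1 :=
        forall_getD_of_forall_mem (fun w => prodw (gc2 a b) w = 1) rels [] hrel rfl _
      rw [this]
      exact one_mem _
  have hwk : prodw (gc2 a b) wk = 1 := hrel wk (by decide)
  obtain ⟨hfin, hc⟩ := card_le_of_factL_pair a b hgen _ (genC 16) S hcl 11 (by norm_num) ha hι wk
    (by decide) hwk pairAll
  exact ⟨hfin, by omega⟩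

/-- the relations among the relator symbols found by the faces. -/
def lam : Fin 19 → Fin 16 → ℤ :=
  ![![0, 0, -3, 0, 0, 0, 0, 0, 1, 0, 0, 0, 0, 0, 0, 0],
    ![0, 0, -1, 0, 2, 0, 0, 0, -1, 0, 0, 0, 0, 0, 0, 0],
    ![0, 0, -2, 0, 0, 0, 2, 0, 0, 0, -2, 0, 0, 0, 0, 0],
    ![0, 0, 2, 0, 0, 0, 2, 0, 0, 0, 0, -2, 0, 0, 0, 0],
    ![0, 0, -2, 0, 0, 0, 0, 0, -2, 0, 2, 0, 0, 0, 0, 0],
    ![0, 0, 0, 0, 0, 0, 0, 3, -1, 0, 0, 0, 0, -3, 0, 0],
    ![0, 0, -3, 0, 0, 0, 0, 0, 0, 0, 0, 0, 0, 3, -2, 0],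
    ![0, 0, 0, -4, 2, 2, 0, 0, 0, 0, 0, 0, 0, 0, 0, 0],
    ![11, -1, 0, 0, 0, 0, 0, 0, 0, 0, 0, 0, 0, 0, 0, 0],
    ![0, 0, 0, 8, 0, 0, 0, 0, 0, -3, 0, -2, 0, 0, 0, 0],
    ![0, 2, -1, 3, 5, -2, 0, 0, -1, -1, -1, -1, 1, -1, 2, 0],
    ![0, 8, -2, 0, -4, 0, 0, 0, -2, 4, -2, 0, 2, 0, 0, 0],
    ![0, -2, -5, 5, 1, -2, 0, 2, 2, 0, -2, 0, -1, 0, -2, 0],
    ![0, -2, -8, 7, 2, -4, 0, 0, 0, 0, -1, 1, 0, -1, 0, 0],
    ![0, -2, -4, 7, -6, 0, 0, -4, 3, -1, 0, 1, 0, -2, 2, 0],
    ![0, -4, -2, -2, 1, 1, 2, 8, 2, 0, 0, -4, -1, 2, -8, 0],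
    ![0, -4, -6, 0, -1, 3, 0, -10, -1, -1, 4, 2, 0, 3, 2, 0],
    ![0, -4, 1, 6, 9, -3, -1, -8, -1, 2, -1, 1, -1, 1, 2, 0],
    ![-9592, -22786, 152635, -12234, -8685, 10094, -2687, 5216, 5919, -3611, -3567, -13344, -5318, -342, -11014, -2]]

theorem hT2 (Δ : Type u) [Group Δ] (a b : Δ)
    (hcen : ∀ ρ g, Commute (prodw (gc2 a b) (rels.getD ρ [])) g) (j : Fin 19) :
    Psi (gfam a b rels 16) (gfam_comm a b rels 16 hcen) (lam j) = 1 := by
  have hinv := gc2_invF a b invF invF_eq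
  have hrels := bridge_rels a b rels 16 (by decide) hcen
  have hsubs := bridge_subs a b rels 16 (by norm_num) hcen
  fin_cases j
  · exact psi_eq_one_of_face _ _ 65536 11 [720896, 720897, 720893, 720896, 720896, 720896, 720896, 720896, 720897, 720896, 720896, 720896, 720896, 720896, 720896, 720896] rfl
      ⟨1, by norm_num⟩ _ (face0 (gc2 a b) _ (genC 16) hinv hrels hsubs) (by decide +kernel)
  · exact psi_eq_one_of_face _ _ 65536 11 [720896, 720897, 720895, 720896, 720898, 720896, 720896, 720896, 720895, 720896, 720896, 720896, 720896, 720896, 720896, 720896] rfl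
      ⟨1, by norm_num⟩ _ (face1 (gc2 a b) _ (genC 16) hinv hrels hsubs) (by decide +kernel)
  · exact psi_eq_one_of_face _ _ 65536 2 [131072, 131072, 131071, 131072, 131072, 131072, 131074, 131072, 131072, 131072, 131070, 131072, 131072, 131072, 131072, 131072] rfl
      ⟨2, by norm_num⟩ _ (face2 (gc2 a b) _ (genC 16) hinv hrels hsubs) (by decide +kernel)
  · exact psi_eq_one_of_face _ _ 65536 2 [131072, 131072, 131075, 131072, 131072, 131072, 131074, 131072, 131072, 131072, 131072, 131070, 131072, 131072, 131072, 131072] rfl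
      ⟨2, by norm_num⟩ _ (face3 (gc2 a b) _ (genC 16) hinv hrels hsubs) (by decide +kernel)
  · exact psi_eq_one_of_face _ _ 65536 2 [131072, 131072, 131071, 131072, 131072, 131072, 131072, 131072, 131070, 131072, 131074, 131072, 131072, 131072, 131072, 131072] rfl
      ⟨2, by norm_num⟩ _ (face4 (gc2 a b) _ (genC 16) hinv hrels hsubs) (by decide +kernel)
  · exact psi_eq_one_of_face _ _ 65536 30 [1966080, 1966080, 1966080, 1966080, 1966080, 1966080, 1966080, 1966083, 1966079, 1966080, 1966080, 1966080, 1966080, 1966078, 1966080, 1966080] rfl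
      ⟨13, by norm_num⟩ _ (face5 (gc2 a b) _ (genC 16) hinv hrels hsubs) (by decide +kernel)
  · exact psi_eq_one_of_face _ _ 65536 2 [131072, 131072, 131070, 131072, 131072, 131072, 131072, 131072, 131072, 131072, 131072, 131072, 131072, 131075, 131070, 131072] rfl
      ⟨2, by norm_num⟩ _ (face6 (gc2 a b) _ (genC 16) hinv hrels hsubs) (by decide +kernel)
  · exact psi_eq_one_of_face _ _ 65536 2 [131072, 131072, 131073, 131068, 131074, 131074, 131072, 131072, 131072, 131072, 131072, 131072, 131072, 131072, 131072, 131072] rfl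
      ⟨2, by norm_num⟩ _ (face7 (gc2 a b) _ (genC 16) hinv hrels hsubs) (by decide +kernel)
  · exact psi_eq_one_of_face _ _ 65536 11 [720907, 720896, 720896, 720896, 720896, 720896, 720896, 720896, 720896, 720896, 720896, 720896, 720896, 720896, 720896, 720896] rfl
      ⟨1, by norm_num⟩ _ (face8 (gc2 a b) _ (genC 16) hinv hrels hsubs) (by decide +kernel)
  · exact psi_eq_one_of_face _ _ 65536 2 [131072, 131072, 131073, 131080, 131072, 131072, 131072, 131072, 131072, 131069, 131072, 131070, 131072, 131072, 131072, 131072] rfl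
      ⟨2, by norm_num⟩ _ (face9 (gc2 a b) _ (genC 16) hinv hrels hsubs) (by decide +kernel)
  · exact psi_eq_one_of_face _ _ 65536 30 [1966080, 1966082, 1966079, 1966083, 1966085, 1966078, 1966080, 1966080, 1966079, 1966079, 1966079, 1966079, 1966081, 1966080, 1966082, 1966080] rfl
      ⟨13, by norm_num⟩ _ (face10 (gc2 a b) _ (genC 16) hinv hrels hsubs) (by decide +kernel)
  · exact psi_eq_one_of_face _ _ 65536 24 [1572864, 1572872, 1572862, 1572864, 1572860, 1572864, 1572864, 1572864, 1572862, 1572868, 1572863, 1572864, 1572866, 1572864, 1572864, 1572864] rfl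
      ⟨10, by norm_num⟩ _ (face11 (gc2 a b) _ (genC 16) hinv hrels hsubs) (by decide +kernel)
  · exact psi_eq_one_of_face _ _ 65536 24 [1572864, 1572862, 1572859, 1572869, 1572865, 1572862, 1572864, 1572866, 1572866, 1572864, 1572862, 1572865, 1572863, 1572864, 1572862, 1572864] rfl
      ⟨11, by norm_num⟩ _ (face12 (gc2 a b) _ (genC 16) hinv hrels hsubs) (by decide +kernel)
  · exact psi_eq_one_of_face _ _ 65536 24 [1572864, 1572862, 1572856, 1572871, 1572866, 1572860, 1572864, 1572864, 1572864, 1572864, 1572864, 1572865, 1572864, 1572863, 1572864, 1572864] rfl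
      ⟨10, by norm_num⟩ _ (face13 (gc2 a b) _ (genC 16) hinv hrels hsubs) (by decide +kernel)
  · exact psi_eq_one_of_face _ _ 65536 12 [786432, 786430, 786428, 786440, 786426, 786432, 786432, 786428, 786435, 786431, 786432, 786433, 786432, 786430, 786434, 786432] rfl
      ⟨3, by norm_num⟩ _ (face14 (gc2 a b) _ (genC 16) hinv hrels hsubs) (by decide +kernel)
  · exact psi_eq_one_of_face _ _ 65536 20 [1310720, 1310716, 1310718, 1310718, 1310722, 1310721, 1310722, 1310728, 1310722, 1310720, 1310720, 1310716, 1310719, 1310722, 1310712, 1310720] rfl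
      ⟨4, by norm_num⟩ _ (face15 (gc2 a b) _ (genC 16) hinv hrels hsubs) (by decide +kernel)
  · exact psi_eq_one_of_face _ _ 65536 24 [1572864, 1572860, 1572858, 1572864, 1572863, 1572867, 1572864, 1572855, 1572863, 1572863, 1572868, 1572866, 1572864, 1572867, 1572866, 1572864] rfl
      ⟨7, by norm_num⟩ _ (face16 (gc2 a b) _ (genC 16) hinv hrels hsubs) (by decide +kernel)
  · exact psi_eq_one_of_face _ _ 65536 24 [1572864, 1572860, 1572865, 1572870, 1572873, 1572861, 1572863, 1572856, 1572863, 1572866, 1572863, 1572866, 1572863, 1572865, 1572866, 1572864] rfl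
      ⟨11, by norm_num⟩ _ (face17 (gc2 a b) _ (genC 16) hinv hrels hsubs) (by decide +kernel)
  · exact psi_eq_one_of_face_sq _ _ 65536 72 [4709000, 4695806, 4871227, 4706358, 4709907, 4728686, 4715905, 4723808, 4724511, 4714981, 4715025, 4705248, 4713274, 4718250, 4707578, 4718592] rfl
      ⟨15, by norm_num⟩ _ (faceK (gc2 a b) _ (genC 16) hinv hrels hsubs) (by decide +kernel)

/-! ### The lattice data -/

def e1 : Fin 16 → ℤ := ![0, 11, 0, -6, 0, -12, 0, -16, 0, -16, 0, 0, -12, -16, -24, -9]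
def e2 : Fin 16 → ℤ := ![0, 0, 2, 6, 4, 8, 10, 8, 6, 8, 8, 12, 8, 6, 6, 9]
def c1 : Fin 16 → ℤ := ![0, -1, 1, 0, -1, -1, 1, 0, 0, 0, 0, 0, 0, 0, 0, 0]
def c2 : Fin 16 → ℤ := ![0, -1, 2, -3, -6, -1, 4, 2, 1, 2, 2, -1, 2, 0, -1, -5]
def g0 : Fin 16 → ℤ := ![0, 0, 0, 0, 0, -1, 1, 0, 0, 0, 0, 0, -1, 0, 1, 0]

theorem he1 : ∀ c : Fin 16, e1 c = if (c : ℕ) = 0 then 0 else es0 (rels.getD ((c : ℕ) - 1) []) := by
  decide +kernel

theorem he2 : ∀ c : Fin 16, e2 c = if (c : ℕ) = 0 then 0 else es1 (rels.getD ((c : ℕ) - 1) []) := by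
  decide +kernel

theorem Efun_eq (e v : Fin 16 → ℤ) : Efun e v =
    v 0 * e 0 + v 1 * e 1 + v 2 * e 2 + v 3 * e 3 + v 4 * e 4 + v 5 * e 5 + v 6 * e 6 + v 7 * e 7 + v 8 * e 8 + v 9 * e 9 + v 10 * e 10 + v 11 * e 11 + v 12 * e 12 + v 13 * e 13 + v 14 * e 14 + v 15 * e 15 := by
  unfold Efun
  rw [sum_univ_sixteen]

theorem hc1 : (∀ c : Fin 16, (c : ℕ) = 0 → c1 c = 0) ∧ Efun e1 c1 = 1 ∧ Efun e2 c1 = 0 := by
  refine ⟨by decide, ?_, ?_⟩ <;> rw [Efun_eq] <;> decide

theorem hc2 : (∀ c : Fin 16, (c : ℕ) = 0 → c2 c = 0) ∧ Efun e1 c2 = 0 ∧ Efun e2 c2 = 1 := by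
  refine ⟨by decide, ?_, ?_⟩ <;> rw [Efun_eq] <;> decide

theorem hg0 : ∀ c : Fin 16, (c : ℕ) = 0 → g0 c = 0 := by decide

theorem hL1 : ∀ v : Fin 16 → ℤ, (∀ c : Fin 16, (c : ℕ) = 0 → v c = 0) → Efun e1 v = 0 →
    Efun e2 v = 0 → ∃ (cf : Fin 19 → ℤ) (t : ℤ), v = ∑ j, cf j • lam j + t • g0 := by
  intro v h0 h1 h2
  have h0' : v 0 = 0 := h0 0 rfl
  rw [Efun_eq] at h1 h2
  simp only [e1, e2, Matrix.cons_val_zero, Matrix.cons_val_one, Matrix.cons_val] at h1 h2
  refine ⟨![(6020) * v 1 + (1245) * v 2 + (461) * v 3 + (2524) * v 4 + (-1603) * v 5 + (6260) * v 6 + (-3782) * v 7 + (3726) * v 8 + (-3846) * v 9 + (4975) * v 10 + (7500) * v 11 + (-1615) * v 12 + (-5075) * v 13 + (-9478) * v 14 + (-6190) * v 15,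
      (1407) * v 1 + (287) * v 2 + (94) * v 3 + (556) * v 4 + (-370) * v 5 + (1426) * v 6 + (-885) * v 7 + (867) * v 8 + (-850) * v 9 + (1158) * v 10 + (1716) * v 11 + (-360) * v 12 + (-1147) * v 13 + (-2156) * v 14 + (-1465) * v 15,
      (-150) * v 1 + (-30) * v 2 + (-4) * v 3 + (-39) * v 4 + (31) * v 5 + (-130) * v 6 + (91) * v 7 + (-96) * v 8 + (51) * v 9 + (-126) * v 10 + (-163) * v 11 + (22) * v 12 + (90) * v 13 + (183) * v 14 + (203) * v 15,
      (1640) * v 1 + (337) * v 2 + (113) * v 3 + (653) * v 4 + (-427) * v 5 + (1665) * v 6 + (-1029) * v 7 + (1018) * v 8 + (-988) * v 9 + (1355) * v 10 + (2005) * v 11 + (-418) * v 12 + (-1334) * v 13 + (-2510) * v 14 + (-1770) * v 15,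
      (4398) * v 1 + (911) * v 2 + (335) * v 3 + (1830) * v 4 + (-1160) * v 5 + (4560) * v 6 + (-2758) * v 7 + (2731) * v 8 + (-2773) * v 9 + (3640) * v 10 + (5470) * v 11 + (-1166) * v 12 + (-3682) * v 13 + (-6886) * v 14 + (-4611) * v 15,
      (-693) * v 1 + (-142) * v 2 + (-50) * v 3 + (-286) * v 4 + (188) * v 5 + (-712) * v 6 + (439) * v 7 + (-426) * v 8 + (444) * v 9 + (-568) * v 10 + (-854) * v 11 + (190) * v 12 + (586) * v 13 + (1090) * v 14 + (702) * v 15,
      (171) * v 1 + (36) * v 2 + (8) * v 3 + (49) * v 4 + (-32) * v 5 + (156) * v 6 + (-101) * v 7 + (112) * v 8 + (-58) * v 9 + (147) * v 10 + (194) * v 11 + (-23) * v 12 + (-103) * v 13 + (-211) * v 14 + (-266) * v 15,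
      (2605) * v 1 + (540) * v 2 + (192) * v 3 + (1050) * v 4 + (-667) * v 5 + (2666) * v 6 + (-1623) * v 7 + (1626) * v 8 + (-1569) * v 9 + (2164) * v 10 + (3209) * v 11 + (-658) * v 12 + (-2121) * v 13 + (-3991) * v 14 + (-2832) * v 15,
      (374) * v 1 + (78) * v 2 + (30) * v 3 + (156) * v 4 + (-96) * v 5 + (390) * v 6 + (-232) * v 7 + (234) * v 8 + (-232) * v 9 + (312) * v 10 + (468) * v 11 + (-96) * v 12 + (-310) * v 13 + (-582) * v 14 + (-391) * v 15,
      (-1066) * v 1 + (-221) * v 2 + (-80) * v 3 + (-438) * v 4 + (277) * v 5 + (-1102) * v 6 + (666) * v 7 + (-665) * v 8 + (657) * v 9 + (-885) * v 10 + (-1324) * v 11 + (275) * v 12 + (881) * v 13 + (1654) * v 14 + (1148) * v 15,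
      (1565) * v 1 + (326) * v 2 + (123) * v 3 + (655) * v 4 + (-407) * v 5 + (1633) * v 6 + (-976) * v 7 + (978) * v 8 + (-980) * v 9 + (1302) * v 10 + (1959) * v 11 + (-408) * v 12 + (-1306) * v 13 + (-2448) * v 14 + (-1671) * v 15,
      (1045) * v 1 + (217) * v 2 + (81) * v 3 + (434) * v 4 + (-272) * v 5 + (1085) * v 6 + (-652) * v 7 + (651) * v 8 + (-652) * v 9 + (868) * v 10 + (1302) * v 11 + (-272) * v 12 + (-869) * v 13 + (-1629) * v 14 + (-1095) * v 15,
      (5080) * v 1 + (1051) * v 2 + (382) * v 3 + (2102) * v 4 + (-1336) * v 5 + (5256) * v 6 + (-3184) * v 7 + (3157) * v 8 + (-3180) * v 9 + (4206) * v 10 + (6309) * v 11 + (-1336) * v 12 + (-4233) * v 13 + (-7928) * v 14 + (-5347) * v 15,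
      (1018) * v 1 + (210) * v 2 + (73) * v 3 + (407) * v 4 + (-263) * v 5 + (1036) * v 6 + (-636) * v 7 + (632) * v 8 + (-614) * v 9 + (843) * v 10 + (1247) * v 11 + (-258) * v 12 + (-828) * v 13 + (-1557) * v 14 + (-1089) * v 15,
      (-791) * v 1 + (-163) * v 2 + (-61) * v 3 + (-338) * v 4 + (216) * v 5 + (-827) * v 6 + (500) * v 7 + (-487) * v 8 + (522) * v 9 + (-651) * v 10 + (-989) * v 11 + (220) * v 12 + (679) * v 13 + (1263) * v 14 + (788) * v 15,
      (-1836) * v 1 + (-380) * v 2 + (-138) * v 3 + (-755) * v 4 + (479) * v 5 + (-1895) * v 6 + (1148) * v 7 + (-1142) * v 8 + (1138) * v 9 + (-1522) * v 10 + (-2276) * v 11 + (477) * v 12 + (1520) * v 13 + (2851) * v 14 + (1931) * v 15,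
      (1362) * v 1 + (281) * v 2 + (101) * v 3 + (567) * v 4 + (-364) * v 5 + (1411) * v 6 + (-858) * v 7 + (843) * v 8 + (-866) * v 9 + (1124) * v 10 + (1692) * v 11 + (-365) * v 12 + (-1145) * v 13 + (-2140) * v 14 + (-1426) * v 15,
      (-1851) * v 1 + (-383) * v 2 + (-139) * v 3 + (-762) * v 4 + (484) * v 5 + (-1912) * v 6 + (1158) * v 7 + (-1151) * v 8 + (1150) * v 9 + (-1534) * v 10 + (-2296) * v 11 + (482) * v 12 + (1535) * v 13 + (2878) * v 14 + (1947) * v 15,
      (1) * v 2 + (3) * v 3 + (2) * v 4 + (4) * v 5 + (5) * v 6 + (4) * v 7 + (3) * v 8 + (4) * v 9 + (4) * v 10 + (6) * v 11 + (4) * v 12 + (3) * v 13 + (3) * v 14 + (4) * v 15],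
    (-15) * v 1 + (-2) * v 2 + (-10) * v 4 + (10) * v 5 + (-16) * v 6 + (14) * v 7 + (-6) * v 8 + (24) * v 9 + (-8) * v 10 + (-18) * v 11 + (12) * v 12 + (24) * v 13 + (39) * v 14 + (-3) * v 15, ?_⟩
  funext c
  rw [sum_univ_nineteen]
  fin_cases c
  · simp [lam, g0] <;> linear_combination (-374) * h1 + (4367) * h2 + (1) * h0'
  · simp [lam, g0] <;> linear_combination (-891) * h1 + (10372) * h2 + (0) * h0'
  · simp [lam, g0] <;> linear_combination (5962) * h1 + (-69532) * h2 + (0) * h0'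
  · simp [lam, g0] <;> linear_combination (-482) * h1 + (5569) * h2 + (0) * h0'
  · simp [lam, g0] <;> linear_combination (-334) * h1 + (3964) * h2 + (0) * h0'
  · simp [lam, g0] <;> linear_combination (394) * h1 + (-4597) * h2 + (0) * h0'
  · simp [lam, g0] <;> linear_combination (-104) * h1 + (1226) * h2 + (0) * h0'
  · simp [lam, g0] <;> linear_combination (205) * h1 + (-2379) * h2 + (0) * h0'
  · simp [lam, g0] <;> linear_combination (231) * h1 + (-2696) * h2 + (0) * h0'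
  · simp [lam, g0] <;> linear_combination (-140) * h1 + (1645) * h2 + (0) * h0'
  · simp [lam, g0] <;> linear_combination (-142) * h1 + (1625) * h2 + (0) * h0'
  · simp [lam, g0] <;> linear_combination (-521) * h1 + (6078) * h2 + (0) * h0'
  · simp [lam, g0] <;> linear_combination (-207) * h1 + (2422) * h2 + (0) * h0'
  · simp [lam, g0] <;> linear_combination (-14) * h1 + (159) * h2 + (0) * h0'
  · simp [lam, g0] <;> linear_combination (-431) * h1 + (5014) * h2 + (0) * h0'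
  · simp [lam, g0] <;> linear_combination (0) * h1 + (1) * h2 + (0) * h0'

theorem hL2 : ∃ cf : Fin 19 → ℤ, ((12 : ℕ) : ℤ) • g0 = ∑ j, cf j • lam j := by
  refine ⟨![77, -43, 48, -49, 18, -4, -50, -66, 0, 10, 6, 0, -4, -28, -26, 12, 10, 10, 0], ?_⟩
  funext c
  rw [sum_univ_nineteen]
  fin_cases c <;> simp [lam, g0]

end Cfsg.Agent.Helper19.SchM22
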