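import Cfsg.Agent.Helper19.SchM22.MTab

set_option autoImplicit false
set_option linter.all false
set_option maxRecDepth 1000000
set_option maxHeartbeats 0

namespace Cfsg.Agent.Helper19.SchM22

theorem okM12 : OKM (12 * 1008) 1008 := by decide +kernel
theorem okM13 : OKM (13 * 1008) 1008 := by decide +kernel
theorem okM14 : OKM (14 * 1008) 1008 := by decide +kernel
theorem okM15 : OKM (15 * 1008) 1008 := by decide +kernel

end Cfsg.Agent.Helper19.SchM22
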