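import Mathlib
import Cfsg.Agent.Helper27.M22Out
import Cfsg.Agent.Helper27.M22Big
import Cfsg.Agent.Helper19.SchM22.Inst
import Cfsg.Agent.Helper19.SchM22.MFacts
import Cfsg.Agent.Helper19.Schur.Table
import Cfsg.Agent.Helper19.Schur.GolayTbl

/-! The Schur multiplier of `M₂₂` is cyclic of order twelve: relators in the concrete group, and the final statement. (generated) -/

set_option autoImplicit false
set_option linter.all false
set_option maxRecDepth 100000
set_option maxHeartbeats 0

namespace Cfsg.Agent.Helper19.SchM22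

open Cfsg Cfsg.Agent.Helper27 Cfsg.Agent.Helper19.TCS Cfsg.Agent.Helper19.TCL
  Cfsg.Agent.Helper19.TCM Cfsg.Agent.Helper19.Schur

/-! ### The relators hold in `G2` -/

theorem m22yP_inv_rep : Represents (m22yP⁻¹ : Equiv.Perm GolayPt) m22Y :=
  represents_inv_of_compT m22yP_rep m22Y_valid (by decide +kernel)

theorem relsT_ok : rels.all (fun w => prodT x11T m22Xi m22Y m22Y w == idT) = true := by
  decide +kernel

theorem hrelP : ∀ w ∈ rels, prodw (gc2 m22xP m22yP) w = 1 := by
  intro w hw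
  have h := List.all_eq_true.mp relsT_ok w hw
  have h1 := represents_prodw m22xP_rep m22xP_inv_rep m22yP_rep m22yP_inv_rep w
  rw [beq_iff_eq.mp h] at h1
  exact represents_inj h1 represents_one

theorem hrelG : ∀ w ∈ rels, prodw (gc2 m22xG m22yG) w = 1 := by
  intro w hw
  apply Subtype.ext
  have h := map_prodw G2.subtype m22xG m22yG w
  rw [Subgroup.coe_subtype] at h
  rw [h]
  exact hrelP w hw

/-! ### The model data -/

def c1m : Fin 16 → ℤ := ![0, -1, 1, 0, -1, -7, 7, 0, 0, 0, 0, 0, -6, 0, 6, 0]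
def c2m : Fin 16 → ℤ := ![0, -1, 2, -3, -6, -1, 4, 2, 1, 2, 2, -1, 2, 0, -1, -5]

theorem relsM_eq : relsM = rels := by decide

theorem schur_G : Cfsg.HasCyclicSchurMultiplier ↥G2 12 := by
  have hcard : Nat.card ↥G2 = 443520 := card_G2
  haveI : Finite ↥G2 := Nat.finite_of_card_ne_zero (by rw [hcard]; norm_num)
  have hT1' : ∀ (Δ : Type) [Group Δ] (a b : Δ), Subgroup.closure {a, b} = (⊤ : Subgroup Δ) →
      (∀ w ∈ rels, prodw (gc2 a b) w = 1) → Finite Δ ∧ Nat.card Δ ≤ Nat.card ↥G2 := by
    intro Δ _ a b h1 h2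
    rw [hcard]
    exact hT1 Δ a b h1 h2
  have hM := relsM_ok
  rw [relsM_eq] at hM
  refine ⟨?_, ?_⟩
  · exact exists_stem_of_table m22xG m22yG G2_closure rels hT1' hrelG modelOK (by norm_num) phisM
      (by decide) (by decide) hM 16 e1 e2 c1m c2m he1 he2
      (by constructor <;> rw [Efun_eq] <;> decide) (by constructor <;> rw [Efun_eq] <;> decide)
      (by rw [sum_univ_sixteen]; decide) (by rw [sum_univ_sixteen]; decide) [13, 1] (by decide)
  · exact exists_surjective_of_stem m22xG m22yG G2_closure rels 16 (by decide) hrelG hT1' 19 lam hT2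
      e1 e2 he1 he2 c1 c2 g0 12 hc1 hc2 hg0 hL1 hL2

theorem schur_M22 : Cfsg.HasCyclicSchurMultiplier ↥Cfsg.Spor.M22 12 := by
  obtain ⟨e⟩ := nonempty_sporM22_equiv_G2
  exact hasSchurMultiplier_of_mulEquiv e.symm schur_G

end Cfsg.Agent.Helper19.SchM22
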